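/-
Coset enumeration certificate, found by a computer search.
-/
import Cfsg.Agent.Lib.Spor.Mults.MTwelve.Enum2.Data

namespace CfsgLib.Spor.Mults.MTwelve.Enum2

open CfsgLib.Spor.TC

def scodes0_0 : List ℕ :=
  [0x1,
   0x1,
   0x1,
   0x1,
   0x1,
   0x1,
   0x1,
   0x200000400000600000800000a00000c00000e000008000001000001000002]

def scodes0_ : List ℕ :=
  scodes0_0

set_option maxRecDepth 100000 in
theorem steps0 : cert.StepsWideOK 0 8 :=
  Cert.StepsWideOK.of_check _ (codes := scodes0_) (by decide +kernel)

def rcodes0_0 : List ℕ :=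
  [0xf0000800000000002,
   0x20000300000100001,
   0x30000200000400004,
   0x60000500000500003,
   0x70000400000800006,
   0xa0000700000900005,
   0xb0000600000c00008,
   0xe0000100000d00007]

def rcodes0_ : List ℕ :=
  rcodes0_0

set_option maxRecDepth 100000 in
theorem rows0 : cert.RowsOK 8 8 0 8 :=
  Cert.RowsOK.of_check _ (codes := rcodes0_) (by decide +kernel)

end CfsgLib.Spor.Mults.MTwelve.Enum2
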